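import Groth.Agent.SmoothDimLib.Criterion
import Groth.Agent.TransLib.RelNhd
import Groth.Agent.FibDimLib.Semicont
import Mathlib

/-!
# Smoothness at a point read off at the point of the fibre
-/

set_option autoImplicit false

universe u

open TensorProduct CategoryTheory AlgebraicGeometry

namespace SmoothFibPtLib

variable {R A : Type u} [CommRing R] [CommRing A] [Algebra R A] (pp : Ideal R) [pp.IsPrime]

/-- Elements of the fibre at a maximal ideal lift. -/
theorem includeRight_surjective [pp.IsMaximal] :
    Function.Surjective (Algebra.TensorProduct.includeRight : A →ₐ[R] pp.Fiber A) := by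
  intro z
  have hs : Function.Surjective (algebraMap R pp.ResidueField) := pp.algebraMap_residueField_surjective
  change pp.ResidueField ⊗[R] A at z
  induction z using TensorProduct.induction_on with
  | zero => exact ⟨0, map_zero _⟩
  | tmul c a =>
    obtain ⟨r, rfl⟩ := hs c
    refine ⟨r • a, ?_⟩
    rw [Algebra.TensorProduct.includeRight_apply, TensorProduct.tmul_smul, TensorProduct.smul_tmul',
      Algebra.algebraMap_eq_smul_one]
  | add u v hu hv =>
    obtain ⟨a, ha⟩ := hu
    obtain ⟨b, hb⟩ := hv
    exact ⟨a + b, by rw [map_add, ha, hb]⟩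

/-- Smoothness at a prime gives smoothness at the point of the fibre. -/
theorem isSmoothAt_fibre [Algebra.FinitePresentation R A] (x : Ideal A) [x.IsPrime] [Algebra.IsSmoothAt R x]
    (Q : Ideal (pp.Fiber A)) [Q.IsPrime]
    (hQ : Q.comap (Algebra.TensorProduct.includeRight : A →ₐ[R] pp.Fiber A).toRingHom = x) :
    Algebra.IsSmoothAt pp.ResidueField Q := by
  obtain ⟨g, hg, hsm⟩ := Algebra.IsSmoothAt.exists_notMem_smooth R x
  let g' : pp.Fiber A := (1 : pp.ResidueField) ⊗ₜ[R] g
  haveI : IsLocalization ((Submonoid.powers g).map (Algebra.TensorProduct.includeRight (R := R) (A := pp.ResidueField) (B := A)))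
      (Localization.Away g') := by
    rw [Submonoid.map_powers]
    exact inferInstanceAs (IsLocalization (Submonoid.powers g') (Localization.Away g'))
  let e : pp.ResidueField ⊗[R] Localization.Away g ≃ₐ[pp.ResidueField] Localization.Away g' :=
    IsLocalization.tensorProductEquivOfMapIncludeRight R pp.ResidueField (Submonoid.powers g) (Localization.Away g) (Localization.Away g')
  haveI : Algebra.Smooth pp.ResidueField (pp.ResidueField ⊗[R] Localization.Away g) := inferInstance
  haveI : Algebra.FormallySmooth pp.ResidueField (Localization.Away g') := Algebra.FormallySmooth.of_equiv e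
  have hgQ : g' ∉ Q := fun h => hg (hQ ▸ (show g ∈ Q.comap _ from h))
  haveI : Algebra.FinitePresentation pp.ResidueField (pp.Fiber A) := inferInstanceAs (Algebra.FinitePresentation pp.ResidueField (pp.ResidueField ⊗[R] A))
  have hsub := (Algebra.basicOpen_subset_smoothLocus_iff (R := pp.ResidueField) (A := pp.Fiber A) (f := g')).2 inferInstance
  exact hsub (show (⟨Q, ‹_›⟩ : PrimeSpectrum (pp.Fiber A)) ∈ PrimeSpectrum.basicOpen g' from hgQ)

/-- A flat algebra of finite presentation is smooth at a prime over a maximal ideal if its fibre is smooth there. -/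
theorem isSmoothAt_of_fibre [pp.IsMaximal] [Algebra.FinitePresentation R A] [Module.Flat R A] (x : Ideal A) [x.IsPrime]
    [x.LiesOver pp] (Q : Ideal (pp.Fiber A)) [Q.IsPrime]
    (hQ : Q.comap (Algebra.TensorProduct.includeRight : A →ₐ[R] pp.Fiber A).toRingHom = x)
    [Algebra.IsSmoothAt pp.ResidueField Q] : Algebra.IsSmoothAt R x := by
  obtain ⟨g', hg', hsm⟩ := Algebra.IsSmoothAt.exists_notMem_smooth pp.ResidueField Q
  obtain ⟨g, rfl⟩ := includeRight_surjective pp g'
  have hg : g ∉ x := fun h => hg' (by rw [← hQ] at h; exact h)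
  let g' : pp.Fiber A := Algebra.TensorProduct.includeRight g
  let Ag := Localization.Away g
  haveI : IsLocalization ((Submonoid.powers g).map (Algebra.TensorProduct.includeRight (R := R) (A := pp.ResidueField) (B := A)))
      (Localization.Away g') := by
    rw [Submonoid.map_powers]
    exact inferInstanceAs (IsLocalization (Submonoid.powers g') (Localization.Away g'))
  let e : pp.ResidueField ⊗[R] Ag ≃ₐ[pp.ResidueField] Localization.Away g' :=
    IsLocalization.tensorProductEquivOfMapIncludeRight R pp.ResidueField (Submonoid.powers g) Ag (Localization.Away g')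
  haveI : Algebra.FormallySmooth pp.ResidueField (pp.Fiber Ag) := Algebra.FormallySmooth.of_equiv e.symm
  haveI : Algebra.FinitePresentation A Ag := IsLocalization.Away.finitePresentation g
  haveI : Algebra.FinitePresentation R Ag := Algebra.FinitePresentation.trans R A Ag
  haveI : Module.Flat A Ag := IsLocalization.flat Ag (Submonoid.powers g)
  haveI : Module.Flat R Ag := Module.Flat.trans R A Ag
  let q := x.map (algebraMap A Ag)
  have hdisj : Disjoint (Submonoid.powers g : Set A) (x : Set A) :=
    (Ideal.disjoint_powers_iff_notMem g (Ideal.IsPrime.isRadical ‹_›)).2 hg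
  haveI hq : q.IsPrime := IsLocalization.isPrime_of_isPrime_disjoint (Submonoid.powers g) Ag x ‹_› hdisj
  have hcomap : q.comap (algebraMap A Ag) = x :=
    IsLocalization.under_map_of_isPrime_disjoint (Submonoid.powers g) Ag ‹_› hdisj
  haveI : q.LiesOver pp := ⟨by
    rw [Ideal.LiesOver.over (p := pp) (P := x), Ideal.under, Ideal.under, IsScalarTower.algebraMap_eq R A Ag, ← Ideal.comap_comap, hcomap]⟩
  haveI : Algebra.IsSmoothAt R q := Algebra.IsSmoothAt.of_formallySmooth_fiber pp q
  haveI : IsLocalization.AtPrime (Localization.AtPrime q) (q.comap (algebraMap A Ag)) :=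
    IsLocalization.isLocalization_isLocalization_atPrime_isLocalization (Submonoid.powers g) (Localization.AtPrime q) q
  haveI : IsLocalization x.primeCompl (Localization.AtPrime q) := by
    rw [show x.primeCompl = (q.comap (algebraMap A Ag)).primeCompl from by simp only [hcomap]]
    infer_instance
  exact Algebra.FormallySmooth.of_equiv
    ((IsLocalization.algEquiv x.primeCompl (Localization.AtPrime x) (Localization.AtPrime q)).restrictScalars R).symm

/-- A field valued point gives a point of the fibre, computing the fibre dimension and the differentials. -/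
theorem exists_fibre_point (x : PrimeSpectrum A) (hx : x.asIdeal.comap (algebraMap R A) = pp)
    (K : Type u) [Field K] [Algebra A K] (hK : RingHom.ker (algebraMap A K) = x.asIdeal) :
    ∃ (Q : PrimeSpectrum (pp.Fiber A)) (_ : Algebra (pp.Fiber A) K),
      RingHom.ker (algebraMap (pp.Fiber A) K) = Q.asIdeal ∧
      Q.asIdeal.comap (Algebra.TensorProduct.includeRight : A →ₐ[R] pp.Fiber A).toRingHom = x.asIdeal ∧
      FlatMor.localDim (PrimeSpectrum (pp.Fiber A)) Q =
        FlatMor.fibreDimAt (Spec.map (CommRingCat.ofHom (algebraMap R A))) x ∧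
      Module.finrank K (K ⊗[pp.Fiber A] Ω[pp.Fiber A⁄pp.ResidueField]) = Module.finrank K (K ⊗[A] Ω[A⁄R]) := by
  letI : Algebra R K := ((algebraMap A K).comp (algebraMap R A)).toAlgebra
  haveI : IsScalarTower R A K := IsScalarTower.of_algebraMap_eq' rfl
  have h1 : pp ≤ RingHom.ker (Algebra.ofId R K).toRingHom := fun r hr => by
    show algebraMap A K (algebraMap R A r) = 0
    rw [← RingHom.mem_ker, hK]
    exact (hx ▸ hr : r ∈ x.asIdeal.comap (algebraMap R A))
  have h2 : pp.primeCompl ≤ (IsUnit.submonoid K).comap (Algebra.ofId R K).toRingHom := fun r hr => by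
    show IsUnit (algebraMap A K (algebraMap R A r))
    refine isUnit_iff_ne_zero.2 fun h => hr ?_
    rw [← RingHom.mem_ker, hK] at h
    exact (hx ▸ (h : r ∈ x.asIdeal.comap (algebraMap R A)))
  let ρ : pp.ResidueField →ₐ[R] K := Ideal.ResidueField.liftₐ pp (Algebra.ofId R K) h1 h2
  let φ : pp.Fiber A →ₐ[R] K := Algebra.TensorProduct.lift ρ (IsScalarTower.toAlgHom R A K) fun _ _ => Commute.all _ _
  have hφ : ∀ a : A, φ (Algebra.TensorProduct.includeRight a) = algebraMap A K a := fun a => by
    show ρ 1 * algebraMap A K a = _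
    rw [map_one, one_mul]
  letI : Algebra (pp.Fiber A) K := φ.toRingHom.toAlgebra
  let Q : PrimeSpectrum (pp.Fiber A) := ⟨RingHom.ker φ.toRingHom, RingHom.ker_isPrime _⟩
  have hQ : Q.asIdeal.comap (Algebra.TensorProduct.includeRight : A →ₐ[R] pp.Fiber A).toRingHom = x.asIdeal := by
    ext a
    rw [← hK]
    show φ (Algebra.TensorProduct.includeRight a) = 0 ↔ algebraMap A K a = 0
    rw [hφ]
  let P : PrimeSpectrum R := ⟨pp, ‹_›⟩
  have hxP : PrimeSpectrum.comap (algebraMap R A) x = P := PrimeSpectrum.ext hx
  refine ⟨Q, inferInstance, rfl, hQ, ?_, ?_⟩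
  · rw [TransLib.fibreDimAt_eq_localDim A P x hxP]
    congr 1
    let H := PrimeSpectrum.preimageHomeomorphFiber R A P
    refine H.symm.injective ?_
    rw [H.symm_apply_apply]
    exact Subtype.ext (PrimeSpectrum.ext hQ)
  · letI : Algebra A (pp.Fiber A) := Algebra.TensorProduct.rightAlgebra
    haveI : IsScalarTower A (pp.Fiber A) K := IsScalarTower.of_algebraMap_eq fun a => (hφ a).symm
    haveI : Algebra.IsPushout R pp.ResidueField A (pp.Fiber A) := inferInstanceAs (Algebra.IsPushout R pp.ResidueField A (pp.ResidueField ⊗[R] A))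
    exact ((AlgebraTensorModule.congr (LinearEquiv.refl K K)
      (KaehlerDifferential.tensorKaehlerEquiv R pp.ResidueField A (pp.Fiber A))).symm.trans
        (AlgebraTensorModule.cancelBaseChange A (pp.Fiber A) K K Ω[A⁄R])).finrank_eq

end SmoothFibPtLib
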